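import Groth.Agent.Lib.LC.Torsion
import Groth.Agent.Lib.LC.Acyclic
import Groth.Agent.Lib.LC.Shift
import Mathlib.RingTheory.Derivation.Basic
import Mathlib.Algebra.Module.LocalizedModule.Basic

/-!
# Derivations act on local cohomology
-/

set_option autoImplicit false
universe u

open CategoryTheory

namespace GrothLib.LCDeriv

variable {A : Type u} [CommRing A] (θ : Derivation ℤ A A)

/-- An additive operator satisfying the Leibniz rule over `θ`. -/
def IsOp {M : Type u} [AddCommGroup M] [Module A M] (D : M →+ M) : Prop :=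
  ∀ (a : A) (m : M), D (a • m) = θ a • m + a • D m

/-- Pairs with the twisted action `a • (x, y) = (a x, θ(a) x + a y)`. -/
@[nolint unusedArguments]
def Tw (_θ : Derivation ℤ A A) (M : Type u) : Type u := M × M

variable (M : Type u) [AddCommGroup M] [Module A M]

instance : AddCommGroup (Tw θ M) := inferInstanceAs (AddCommGroup (M × M))

instance : Module A (Tw θ M) where
  smul a p := (a • p.1, θ a • p.1 + a • p.2)
  one_smul p := Prod.ext (one_smul A p.1) (by
    show θ 1 • p.1 + (1 : A) • p.2 = p.2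
    rw [θ.map_one_eq_zero, zero_smul, zero_add, one_smul])
  mul_smul a b p := Prod.ext (mul_smul a b p.1) (by
    show θ (a * b) • p.1 + (a * b) • p.2 = θ a • b • p.1 + a • (θ b • p.1 + b • p.2)
    rw [θ.leibniz, smul_eq_mul, smul_eq_mul, add_smul, smul_add, mul_smul, mul_smul, mul_smul,
      smul_comm b (θ a)]
    abel)
  smul_zero a := Prod.ext (smul_zero a) (by
    show θ a • (0 : M) + a • (0 : M) = 0
    rw [smul_zero, smul_zero, add_zero])
  smul_add a p q := Prod.ext (smul_add a p.1 q.1) (by
    show θ a • (p.1 + q.1) + a • (p.2 + q.2) = θ a • p.1 + a • p.2 + (θ a • q.1 + a • q.2)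
    rw [smul_add, smul_add]
    abel)
  add_smul a b p := Prod.ext (add_smul a b p.1) (by
    show θ (a + b) • p.1 + (a + b) • p.2 = θ a • p.1 + a • p.2 + (θ b • p.1 + b • p.2)
    rw [map_add, add_smul, add_smul]
    abel)
  zero_smul p := Prod.ext (zero_smul A p.1) (by
    show θ 0 • p.1 + (0 : A) • p.2 = 0
    rw [map_zero, zero_smul, zero_smul, add_zero])

/-- The first projection. -/
def fstₗ : Tw θ M →ₗ[A] M where
  toFun p := p.1
  map_add' _ _ := rfl
  map_smul' _ _ := rfl

variable {θ M}

/-- An operator as a linear map to the twisted pairs. -/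
def toTw {D : M →+ M} (hD : IsOp θ D) : M →ₗ[A] Tw θ M where
  toFun m := (m, D m)
  map_add' m m' := Prod.ext rfl (D.map_add m m')
  map_smul' a m := Prod.ext rfl (hD a m)

theorem smul_bijective_tw {a : A} (h : Function.Bijective fun m : M => a • m) :
    Function.Bijective fun p : Tw θ M => a • p := by
  constructor
  · rintro ⟨x, y⟩ ⟨x', y'⟩ hp
    obtain rfl : x = x' := h.1 (congrArg Prod.fst hp)
    exact Prod.ext rfl (h.1 (add_left_cancel (congrArg Prod.snd hp)))
  · rintro ⟨x, y⟩
    obtain ⟨x', hx⟩ := h.2 x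
    obtain ⟨y', hy⟩ := h.2 (y - θ a • x')
    exact ⟨(x', y'), Prod.ext hx ((congrArg (θ a • x' + ·) hy).trans (add_sub_cancel _ _))⟩

/-- An operator extends to a localization. -/
theorem exists_localized (S : Submonoid A) {N : Type u} [AddCommGroup N] [Module A N] (l : M →ₗ[A] N)
    [IsLocalizedModule S l] {D : M →+ M} (hD : IsOp θ D) :
    ∃ D' : N →+ N, IsOp θ D' ∧ ∀ m, D' (l m) = l (D m) := by
  let lT : Tw θ M →ₗ[A] Tw θ N :=
    { toFun := fun p => (l p.1, l p.2)
      map_add' := fun p q => Prod.ext (l.map_add _ _) (l.map_add _ _)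
      map_smul' := fun a p => Prod.ext (l.map_smul a p.1) (by
        show l (θ a • p.1 + a • p.2) = θ a • l p.1 + a • l p.2
        rw [map_add, map_smul, map_smul]) }
  have hu : ∀ s : S, IsUnit (algebraMap A (Module.End A (Tw θ N)) s) := fun s =>
    (Module.End.isUnit_iff _).2 (smul_bijective_tw (θ := θ)
      ((Module.End.isUnit_iff _).1 (IsLocalizedModule.map_units l s)))
  let ψ := IsLocalizedModule.lift S l (lT ∘ₗ toTw hD) hu
  have h1 : fstₗ θ N ∘ₗ ψ = LinearMap.id := by
    refine IsLocalizedModule.ext S l (IsLocalizedModule.map_units l) (LinearMap.ext fun m => ?_)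
    show (ψ (l m)).1 = l m
    rw [IsLocalizedModule.lift_apply]
    rfl
  refine ⟨AddMonoidHom.mk' (fun n => (ψ n).2) fun x y => congrArg Prod.snd (ψ.map_add x y), fun a n => ?_,
    fun m => congrArg Prod.snd (IsLocalizedModule.lift_apply S l _ hu m)⟩
  show (ψ (a • n)).2 = θ a • n + a • (ψ n).2
  rw [map_smul]
  show θ a • (ψ n).1 + a • (ψ n).2 = _
  rw [show (ψ n).1 = n from LinearMap.congr_fun h1 n]

theorem exists_quotient {D : M →+ M} (hD : IsOp θ D) (N : Submodule A M) (hN : ∀ x ∈ N, D x ∈ N) :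
    ∃ D' : M ⧸ N →+ M ⧸ N, IsOp θ D' := by
  let D' : M ⧸ N →+ M ⧸ N := QuotientAddGroup.map N.toAddSubgroup N.toAddSubgroup D fun x hx => hN x hx
  refine ⟨D', fun a z => ?_⟩
  obtain ⟨x, rfl⟩ := Submodule.Quotient.mk_surjective N z
  show Submodule.Quotient.mk (D (a • x)) = θ a • Submodule.Quotient.mk x + a • Submodule.Quotient.mk (D x)
  rw [hD, Submodule.Quotient.mk_add, Submodule.Quotient.mk_smul, Submodule.Quotient.mk_smul]

theorem exists_transport {N : Type u} [AddCommGroup N] [Module A N] (e : M ≃ₗ[A] N) {D : M →+ M}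
    (hD : IsOp θ D) : ∃ D' : N →+ N, IsOp θ D' := by
  refine ⟨e.toAddMonoidHom.comp (D.comp e.symm.toAddMonoidHom), fun a n => ?_⟩
  show e (D (e.symm (a • n))) = θ a • n + a • e (D (e.symm n))
  rw [map_smul, hD, map_add, map_smul, map_smul, e.apply_symm_apply]

variable (θ) in
theorem map_pow_mem (I : Ideal A) : ∀ n : ℕ, ∀ a ∈ I ^ (n + 1), θ a ∈ I ^ n := by
  intro n
  induction n with
  | zero => intro a _; rw [pow_zero, Ideal.one_eq_top]; trivial
  | succ n ih =>
    intro a ha
    rw [pow_succ] at ha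
    refine Submodule.mul_induction_on ha (fun x hx y hy => ?_) fun x y hx hy => ?_
    · rw [θ.leibniz, smul_eq_mul, smul_eq_mul]
      refine add_mem (Ideal.mul_mem_right _ _ hx) ?_
      rw [pow_succ']
      exact Ideal.mul_mem_mul hy (ih x hx)
    · rw [map_add]; exact add_mem hx hy

theorem op_mem_torsion (I : Ideal A) {D : M →+ M} (hD : IsOp θ D) {x : M}
    (hx : x ∈ DRing.torsionSub I M) : D x ∈ DRing.torsionSub I M := by
  obtain ⟨n, hn⟩ := hx
  refine ⟨n + 1, fun a ha => ?_⟩
  have h := hD a x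
  rw [hn a (Ideal.pow_le_pow_right n.le_succ ha), map_zero, hn _ (map_pow_mem θ I n a ha), zero_add] at h
  exact h.symm

variable (θ) [IsNoetherianRing A] (I : Ideal A)

/-- Derivations act on local cohomology. -/
theorem exists_op_localCohomology (i : ℕ) : ∀ (M : ModuleCat.{u} A) (D : M →+ M), IsOp θ D →
    ∃ D' : (localCohomology I i).obj M →+ (localCohomology I i).obj M, IsOp θ D' := by
  classical
  induction i with
  | zero =>
    intro M D hD
    let D₀ : DRing.torsionSub I M →+ DRing.torsionSub I M :=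
      AddMonoidHom.mk' (fun x => ⟨D x.1, op_mem_torsion I hD x.2⟩) fun x y => Subtype.ext (D.map_add x.1 y.1)
    have hD₀ : IsOp θ D₀ := fun a x => Subtype.ext (hD a x.1)
    exact exists_transport (LC.torsionEquiv I M) hD₀
  | succ i ih =>
    intro M D hD
    let T := DRing.torsionSub I M
    obtain ⟨D₁, hD₁⟩ := exists_quotient hD T fun x hx => op_mem_torsion I hD hx
    obtain ⟨s, hs⟩ := IsNoetherian.noetherian I
    let L : s → Type u := fun a => LocalizedModule (Submonoid.powers a.1) (M ⧸ T)
    let l : ∀ a : s, (M ⧸ T) →ₗ[A] L a := fun a => LocalizedModule.mkLinearMap _ _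
    choose DL hDL hDLl using fun a : s => exists_localized (Submonoid.powers a.1) (l a) hD₁
    let ι : (M ⧸ T) →ₗ[A] (∀ a, L a) := LinearMap.pi l
    have hι : Function.Injective ι := by
      refine (injective_iff_map_eq_zero ι).2 fun z hz => ?_
      obtain ⟨x, rfl⟩ := Submodule.Quotient.mk_surjective T z
      have hloc : ∀ a : s, ∃ k : ℕ, a.1 ^ k • x ∈ T := fun a => by
        obtain ⟨⟨_, k, rfl⟩, hk⟩ := (IsLocalizedModule.eq_zero_iff (Submonoid.powers a.1) (l a)).1 (congrFun hz a)
        exact ⟨k, (Submodule.Quotient.mk_eq_zero T).1 ((Submodule.Quotient.mk_smul T _ x).trans hk)⟩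
      let J : Ideal A := T.colon {x}
      have hJ : I ≤ J.radical := hs ▸ Submodule.span_le.2 fun a ha => by
        obtain ⟨k, hk⟩ := hloc ⟨a, ha⟩
        exact ⟨k, Submodule.mem_colon_singleton.2 hk⟩
      obtain ⟨n, hn⟩ := Ideal.exists_pow_le_of_le_radical_of_fg hJ (IsNoetherian.noetherian _)
      obtain ⟨t, ht⟩ := IsNoetherian.noetherian (I ^ n)
      have hq : ∀ b ∈ t, ∃ m, ∀ c ∈ I ^ m, c • b • x = 0 := fun b hb =>
        Submodule.mem_colon_singleton.1 (hn (ht ▸ Submodule.subset_span hb))
      choose! m hm using hq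
      refine (Submodule.Quotient.mk_eq_zero T).2 ⟨t.sup m + n, fun a ha => ?_⟩
      rw [pow_add] at ha
      refine Submodule.mul_induction_on ha (fun c hc b hb => ?_) fun u v hu hv => by
        rw [add_smul, hu, hv, add_zero]
      rw [← ht] at hb
      rw [mul_smul]
      induction hb using Submodule.span_induction with
      | mem b hb => exact hm b hb c (Ideal.pow_le_pow_right (Finset.le_sup (f := m) hb) hc)
      | zero => rw [zero_smul, smul_zero]
      | add u v _ _ hu hv => rw [add_smul, smul_add, hu, hv, add_zero]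
      | smul r u _ hu => rw [smul_eq_mul, mul_smul, smul_comm, hu, smul_zero]
    let DP : (∀ a, L a) →+ (∀ a, L a) := AddMonoidHom.mk' (fun p a => DL a (p a))
      fun p q => funext fun a => (DL a).map_add _ _
    have hDP : IsOp θ DP := fun c p => funext fun a => hDL a c (p a)
    obtain ⟨D₂, hD₂⟩ := exists_quotient hDP (LinearMap.range ι) (by
      rintro _ ⟨x, rfl⟩
      exact ⟨D₁ x, funext fun a => (hDLl a x).symm⟩)
    obtain ⟨D₃, hD₃⟩ := ih (ModuleCat.of A ((∀ a, L a) ⧸ LinearMap.range ι)) D₂ hD₂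
    let S : ShortComplex (ModuleCat.{u} A) := ShortComplex.mk (X₁ := ModuleCat.of A (M ⧸ T))
      (X₂ := ModuleCat.of A (∀ a, L a)) (X₃ := ModuleCat.of A ((∀ a, L a) ⧸ LinearMap.range ι))
      (ModuleCat.ofHom ι) (ModuleCat.ofHom (LinearMap.range ι).mkQ)
      (ModuleCat.hom_ext (LinearMap.range_mkQ_comp ι))
    have hS : S.ShortExact :=
      { exact := (ShortComplex.moduleCat_exact_iff _).2 fun x hx => (Submodule.Quotient.mk_eq_zero _).1 hx
        mono_f := (ModuleCat.mono_iff_injective _).2 hι
        epi_g := (ModuleCat.epi_iff_surjective _).2 (Submodule.mkQ_surjective _) }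
    have hP : ∀ j, Subsingleton ((localCohomology I j).obj S.X₂) := fun j =>
      LC.subsingleton_of_sum_factor I Finset.univ (fun a : s => ModuleCat.of A (L a))
        (fun a => ModuleCat.ofHom (LinearMap.proj a)) (fun a => ModuleCat.ofHom (LinearMap.single A L a))
        (ModuleCat.hom_ext (LinearMap.ext fun p => by
          rw [ModuleCat.hom_sum, LinearMap.sum_apply]
          exact Finset.univ_sum_single p)) j
        fun a _ => LC.subsingleton_of_smul_bijective I (a := a.1) (hs ▸ Submodule.subset_span a.2)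
          ((Module.End.isUnit_iff _).1 (IsLocalizedModule.map_units (l a)
            (⟨a.1, Submonoid.mem_powers _⟩ : Submonoid.powers a.1))) j
    have hδ : Function.Bijective (LC.δ I hS i) := by
      refine ⟨(injective_iff_map_eq_zero _).2 fun x hx => ?_, fun x =>
        LC.exists_of_map_f_eq_zero I hS i (x := x) (@Subsingleton.elim _ (hP (i + 1)) _ _)⟩
      obtain ⟨y, rfl⟩ := LC.exists_of_δ_eq_zero I hS i (x := x) hx
      rw [@Subsingleton.elim _ (hP i) y 0, map_zero]
    obtain ⟨D₄, hD₄⟩ := exists_transport (LinearEquiv.ofBijective (LC.δ I hS i) hδ) hD₃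
    exact exists_transport (LinearEquiv.ofBijective ((localCohomology I (i + 1)).map (LC.subQuot T).g).hom
      (LC.map_bijective_of_torsion I (LC.subQuot_shortExact T) (LC.isPowerTorsion_torsionSub I M) i)).symm hD₄

end GrothLib.LCDeriv
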