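import Groth.Prelude.Def_Coh
import Mathlib.RingTheory.Etale.Kaehler
import Mathlib.RingTheory.RingHom.Etale
import Mathlib.AlgebraicGeometry.Morphisms.Etale
import Mathlib.RingTheory.TensorProduct.IsBaseChangeHom
import Mathlib.Topology.Sheaves.SheafCondition.Sites

/-!
# Derivations extend uniquely along étale ring maps, and to étale schemes
-/

set_option autoImplicit false
universe u

open CategoryTheory AlgebraicGeometry TopologicalSpace Opposite TensorProduct

namespace GrothLib.LCDeriv

variable {A T T' : Type u} [CommRing A] [CommRing T] [CommRing T'] {θ : Derivation ℤ A A}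

/-- `D` is a derivation of `T` extending `θ` along `φ`. -/
structure IsExt (θ : Derivation ℤ A A) (φ : A →+* T) (D : T →+ T) : Prop where
  leib : ∀ x y, D (x * y) = x * D y + y * D x
  ext : ∀ a, D (φ a) = φ (θ a)

/-- A derivation extends along a formally étale map. -/
theorem exists_ext (θ : Derivation ℤ A A) (φ : A →+* T) (hφ : φ.Etale) : ∃ D, IsExt θ φ D := by
  algebraize [φ]
  let l₀ : Ω[A⁄ℤ] →ₗ[A] T := (Algebra.linearMap A T).comp θ.liftKaehlerDifferential
  let l : T ⊗[A] Ω[A⁄ℤ] →ₗ[T] T := LinearMap.liftBaseChange T l₀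
  let d : Derivation ℤ T T :=
    (l.comp (KaehlerDifferential.tensorKaehlerEquivOfFormallyEtale ℤ A T).symm.toLinearMap).compDer
      (KaehlerDifferential.D ℤ T)
  refine ⟨(d : T →ₗ[ℤ] T).toAddMonoidHom, fun x y => d.leibniz x y, fun a => ?_⟩
  show l ((KaehlerDifferential.tensorKaehlerEquivOfFormallyEtale ℤ A T).symm
    (KaehlerDifferential.D ℤ T (algebraMap A T a))) = algebraMap A T (θ a)
  rw [KaehlerDifferential.tensorKaehlerEquivOfFormallyEtale_symm_D_algebraMap]
  show LinearMap.liftBaseChange T l₀ (1 ⊗ₜ[A] KaehlerDifferential.D ℤ A a) = algebraMap A T (θ a)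
  rw [LinearMap.liftBaseChange_tmul, one_smul]
  show algebraMap A T (θ.liftKaehlerDifferential (KaehlerDifferential.D ℤ A a)) = _
  rw [Derivation.liftKaehlerDifferential_comp_D]

/-- Extensions commute with maps under `A`. -/
theorem ext_comm {φ : A →+* T} {φ' : A →+* T'} (hφ : φ.Etale) {r : T →+* T'} (hr : r.comp φ = φ')
    {D : T →+ T} {D' : T' →+ T'} (hD : IsExt θ φ D) (hD' : IsExt θ φ' D') (x : T) :
    r (D x) = D' (r x) := by
  algebraize [φ]
  letI : Algebra T T' := r.toAlgebra
  letI : Algebra A T' := φ'.toAlgebra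
  haveI : IsScalarTower A T T' := IsScalarTower.of_algebraMap_eq' hr.symm
  have he : ∀ a, r (φ a) = φ' a := fun a => RingHom.congr_fun hr a
  let δl : T →ₗ[A] T' :=
    { toFun := fun y => r (D y) - D' (r y)
      map_add' := fun y z => by simp only [map_add]; abel
      map_smul' := fun a y => by
        show r (D (φ a * y)) - D' (r (φ a * y)) = φ' a * (r (D y) - D' (r y))
        rw [map_mul r, hD.leib, hD.ext, he a, hD'.leib, hD'.ext, map_add, map_mul, map_mul, he, he]
        ring }
  let δ : Derivation A T T' := Derivation.mk' δl (fun y z => by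
    show r (D (y * z)) - D' (r (y * z)) = r y * (r (D z) - D' (r z)) + r z * (r (D y) - D' (r y))
    rw [map_mul r, hD.leib, hD'.leib, map_add, map_mul, map_mul]
    ring)
  haveI : Subsingleton (Derivation A T T') :=
    (KaehlerDifferential.linearMapEquivDerivation A T).toEquiv.symm.subsingleton
  exact sub_eq_zero.1 (DFunLike.congr_fun (Subsingleton.elim δ 0) x)

variable {V : Scheme.{u}} (f : V ⟶ Spec (CommRingCat.of A))

/-- `A → Γ(V, U)`. -/
noncomputable def base (U : V.Opens) : A →+* Γ(V, U) :=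
  (V.presheaf.map (homOfLE (le_top (a := U))).op).hom.comp
    (f.appTop.hom.comp (Scheme.ΓSpecIso (CommRingCat.of A)).inv.hom)

theorem res_comp_base {U W : V.Opens} (h : W ≤ U) :
    (V.presheaf.map (homOfLE h).op).hom.comp (base f U) = base f W := by
  rw [base, base, ← RingHom.comp_assoc, ← CommRingCat.hom_comp, ← Functor.map_comp]
  rfl

theorem base_etale [Etale f] (U : V.affineOpens) : (base f U.1).Etale := by
  have h := Scheme.Hom.etale_appLE f (isAffineOpen_top (Spec (CommRingCat.of A))) U.2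
    (show U.1 ≤ f ⁻¹ᵁ ⊤ from le_top)
  have hi : (Scheme.ΓSpecIso (CommRingCat.of A)).inv.hom.Etale :=
    RingHom.Etale.of_bijective (ConcreteCategory.bijective_of_isIso (Scheme.ΓSpecIso (CommRingCat.of A)).inv)
  show ((f.appLE ⊤ U.1 (show U.1 ≤ f ⁻¹ᵁ ⊤ from le_top)).hom.comp
    (Scheme.ΓSpecIso (CommRingCat.of A)).inv.hom).Etale
  exact RingHom.Etale.stableUnderComposition _ _ hi h

/-- An endomorphism of `O_V` as an abelian sheaf extending `θ`. -/
theorem exists_sheaf_op [Etale f] (θ : Derivation ℤ A A) :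
    ∃ c : Coh.toAb (Coh.structureModule V) ⟶ Coh.toAb (Coh.structureModule V), ∀ a : A,
      Coh.smulAb (Coh.structureModule V) (Coh.toGlobal f a) ≫ c =
        Coh.smulAb (Coh.structureModule V) (Coh.toGlobal f (θ a)) +
          c ≫ Coh.smulAb (Coh.structureModule V) (Coh.toGlobal f a) := by
  choose D hD using fun U : V.affineOpens => exists_ext θ (base f U.1) (base_etale f U)
  let B : V.affineOpens → V.Opens := fun U => U.1
  have hB : Opens.IsBasis (Set.range B) := by
    have : Set.range B = V.affineOpens := Subtype.range_val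
    rw [this]
    exact V.isBasis_affineOpens
  let S := Coh.toAb (Coh.structureModule V)
  let η : (inducedFunctor B).op ⋙ S.obj ⟶ (inducedFunctor B).op ⋙ S.obj :=
    { app := fun U => AddCommGrpCat.ofHom (D U.unop)
      naturality := fun U W φ => by
        ext m
        exact (ext_comm (base_etale f U.unop) (res_comp_base f (leOfHom φ.unop.hom)) (hD U.unop)
          (hD W.unop) m).symm }
  let c₀ : S.obj ⟶ S.obj := TopCat.Sheaf.restrictHomEquivHom S.obj S hB η
  have hc : ∀ (U : V.affineOpens) (m : Γ(V, U.1)), c₀.app (op U.1) m = D U m := fun U m =>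
    ConcreteCategory.congr_hom (TopCat.Sheaf.extend_hom_app S.obj S hB η U) m
  refine ⟨⟨c₀⟩, fun a => ?_⟩
  apply ObjectProperty.hom_ext
  refine TopCat.Sheaf.hom_ext S.obj S hB fun U => ?_
  let g : Γ(V, U.1) → Γ(V, U.1) := fun m => c₀.app (op U.1) m
  have key : ∀ m : Γ(V, U.1), g (base f U.1 a * m) = base f U.1 (θ a) * m + base f U.1 a * g m :=
    fun m => by
    have hg : ∀ z, g z = D U z := hc U
    rw [hg, hg, (hD U).leib, (hD U).ext]
    ring
  ext m
  exact key m

theorem H_map_leibniz {M : V.Modules} {c : Coh.toAb M ⟶ Coh.toAb M} {r t : Coh.Γtop V}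
    (h : Coh.smulAb M r ≫ c = Coh.smulAb M t + c ≫ Coh.smulAb M r) (n : ℕ) (x : Coh.HH V M n) :
    Sheaf.H.map c n (r • x) = t • x + r • Sheaf.H.map c n x := by
  show Sheaf.H.map c n (Sheaf.H.map (Coh.smulAb M r) n x) =
    Sheaf.H.map (Coh.smulAb M t) n x + Sheaf.H.map (Coh.smulAb M r) n (Sheaf.H.map c n x)
  rw [← Sheaf.H.map_comp_apply, h, Sheaf.H.map_add_apply, Sheaf.H.map_comp_apply]

end GrothLib.LCDeriv
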